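import Mathlib
import Cfsg.Prelude.Def_Characters
import Cfsg.Agent.Characters.Core
import Cfsg.Agent.Characters.Linear
import Cfsg.Agent.CharactersDeep.IndFun

/-!
# Cyclic Sylow subgroups: a class function with few constituents

`G` finite, all Sylow `s`-subgroups cyclic, `y` of order `s`, `e` the number of conjugates of `y` in
`⟨y⟩`.  There is a class function vanishing on the `s`-regular elements with at most `e + 1`
irreducible constituents, one of them the trivial character: `Ind (1 - μ)` for a linear character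
`μ` of `C_G(y)` of `s`-power order with `μ y ≠ 1` (the transfer of a linear character of a Sylow
subgroup).
-/

set_option autoImplicit false

open Subgroup Cfsg Cfsg.Agent Cfsg.Agent.Characters.Core
open scoped ComplexConjugate

namespace Cfsg.Agent.H208.Pi

universe u

/-- In a cyclic group elements of the same order generate the same subgroup. -/
theorem mem_zpowers_of_cyclic {P : Type u} [Group P] [Finite P] [IsCyclic P] {s : ℕ} (hs : 0 < s)
    {a b : P} (ha : orderOf a = s) (hb : orderOf b = s) : a ∈ zpowers b := by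
  classical
  have : Fintype P := Fintype.ofFinite P
  by_contra h
  have h1 := IsCyclic.card_pow_eq_one_le (α := P) hs
  have h2 : insert a (Finset.univ.filter fun x => x ∈ zpowers b) ⊆
      Finset.univ.filter (fun x : P => x ^ s = 1) := by
    intro x hx
    rw [Finset.mem_insert, Finset.mem_filter] at hx
    rw [Finset.mem_filter]
    refine ⟨Finset.mem_univ _, ?_⟩
    rcases hx with rfl | ⟨-, hx⟩
    · rw [← ha, pow_orderOf_eq_one]
    · obtain ⟨k, rfl⟩ := hx
      change (b ^ k) ^ s = 1
      rw [← zpow_natCast, ← zpow_mul, mul_comm, zpow_mul, zpow_natCast, ← hb, pow_orderOf_eq_one,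
        one_zpow]
  have h3 := Finset.card_le_card h2
  have h4 : (Finset.univ.filter fun x => x ∈ zpowers b).card = s := by
    rw [← hb, ← Nat.card_zpowers, Nat.card_eq_fintype_card, Fintype.card_subtype]
  rw [Finset.card_insert_of_notMem (by simpa using h), h4] at h3
  omega

section

variable {G : Type u} [Group G] [Finite G] {s : ℕ} [hs : Fact s.Prime]

/-- If the Sylow `s`-subgroups are cyclic, commuting elements of order `s` generate the same
subgroup. -/
theorem zpowers_eq_of_commute (hcyc : ∀ P : Sylow s G, IsCyclic (P : Subgroup G)) {y c : G}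
    (hy : orderOf y = s) (hc : orderOf c = s) (h : Commute c y) : zpowers y = zpowers c := by
  have hpy : IsPGroup s (zpowers y) := by
    rw [IsPGroup.iff_card]
    exact ⟨1, by rw [Nat.card_zpowers, hy, pow_one]⟩
  have hpc : IsPGroup s (zpowers c) := by
    rw [IsPGroup.iff_card]
    exact ⟨1, by rw [Nat.card_zpowers, hc, pow_one]⟩
  have hn : zpowers y ≤ normalizer (zpowers c : Set G) := by
    rw [zpowers_le, mem_normalizer_iff]
    intro x
    constructor
    · rintro ⟨k, rfl⟩
      refine ⟨k, ?_⟩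
      change c ^ k = y * c ^ k * y⁻¹
      rw [← (h.zpow_left k).eq, mul_inv_cancel_right]
    · rintro ⟨k, hk⟩
      refine ⟨k, ?_⟩
      change c ^ k = x
      change c ^ k = y * x * y⁻¹ at hk
      have h1 : x = y⁻¹ * c ^ k * y := by rw [hk]; group
      rw [h1, mul_assoc, (h.zpow_left k).eq, inv_mul_cancel_left]
  obtain ⟨P, hP⟩ := (hpy.to_sup_of_normal_right' hpc hn).exists_le_sylow
  have := hcyc P
  have hyP : y ∈ (P : Subgroup G) := hP (mem_sup_left (mem_zpowers y))
  have hcP : c ∈ (P : Subgroup G) := hP (mem_sup_right (mem_zpowers c))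
  have h1 : (⟨y, hyP⟩ : (P : Subgroup G)) ∈ zpowers (⟨c, hcP⟩ : (P : Subgroup G)) :=
    mem_zpowers_of_cyclic hs.out.pos (by rw [Subgroup.orderOf_mk, hy])
      (by rw [Subgroup.orderOf_mk, hc])
  obtain ⟨k, hk⟩ := h1
  have h2 : y ∈ zpowers c := ⟨k, by
    have := congrArg Subtype.val hk
    simpa using this⟩
  exact Subgroup.eq_of_le_of_card_ge (by rwa [zpowers_le])
    (by rw [Nat.card_zpowers, Nat.card_zpowers, hy, hc])

/-- An element of order divisible by `s` commuting with `y`: its powers of order `s` generate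
`⟨y⟩`. -/
theorem zpowers_eq_of_dvd (hcyc : ∀ P : Sylow s G, IsCyclic (P : Subgroup G)) {y c : G}
    (hy : orderOf y = s) (hc : s ∣ orderOf c) (h : Commute c y) :
    zpowers y = zpowers (c ^ (orderOf c / s)) := by
  refine zpowers_eq_of_commute hcyc hy ?_ (h.pow_left _)
  rw [orderOf_pow, Nat.gcd_eq_right (Nat.div_dvd_of_dvd hc), Nat.div_div_self hc (orderOf_pos c).ne']

end

/-- A linear character of `s`-power order, not trivial at a central element of order `s`. -/
theorem exists_hom {C : Type u} [Group C] [Finite C] {s : ℕ} [hs : Fact s.Prime]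
    (hcyc : ∀ P : Sylow s C, IsCyclic (P : Subgroup C)) {y : C} (hy : orderOf y = s)
    (hyc : ∀ g, g * y = y * g) :
    ∃ μ : C →* ℂˣ, μ y ≠ 1 ∧ ∀ g, ¬ s ∣ orderOf g → μ g = 1 := by
  classical
  have hP : IsPGroup s (zpowers y) := by
    rw [IsPGroup.iff_card]
    exact ⟨1, by rw [Nat.card_zpowers, hy, pow_one]⟩
  obtain ⟨S, hS⟩ := hP.exists_le_sylow
  have hyS : y ∈ (S : Subgroup C) := hS (mem_zpowers y)
  have hcS := hcyc S
  let _ : CommGroup (S : Subgroup C) := IsCyclic.commGroup
  have hy1 : (⟨y, hyS⟩ : (S : Subgroup C)) ≠ 1 := by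
    intro h
    have h1 : y = 1 := congrArg Subtype.val h
    rw [h1, orderOf_one] at hy
    exact hs.out.one_lt.ne hy
  obtain ⟨φ, hφ⟩ := CommGroup.exists_apply_ne_one_of_hasEnoughRootsOfUnity
    (S : Subgroup C) ℂ hy1
  refine ⟨MonoidHom.transfer (H := (S : Subgroup C)) φ, ?_, ?_⟩
  · have key : ∀ (k : ℕ) (g₀ : C), g₀⁻¹ * y ^ k * g₀ ∈ (S : Subgroup C) →
        g₀⁻¹ * y ^ k * g₀ = y ^ k := by
      intro k g₀ _
      have h1 : Commute g₀ (y ^ k) := Commute.pow_right (hyc g₀) k
      rw [mul_assoc, ← h1.eq, inv_mul_cancel_left]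
    rw [MonoidHom.transfer_eq_pow φ y key]
    have h2 : (⟨y ^ (S : Subgroup C).index, MonoidHom.transfer_eq_pow_aux y key⟩ :
        (S : Subgroup C)) = ⟨y, hyS⟩ ^ (S : Subgroup C).index := Subtype.ext (by simp)
    rw [h2, map_pow]
    intro h3
    have h4 : orderOf (φ ⟨y, hyS⟩) ∣ (S : Subgroup C).index := orderOf_dvd_of_pow_eq_one h3
    have h5 : orderOf (φ ⟨y, hyS⟩) ∣ s := by
      have := orderOf_map_dvd φ (⟨y, hyS⟩ : (S : Subgroup C))
      rwa [Subgroup.orderOf_mk, hy] at this
    rcases (Nat.dvd_prime hs.out).1 h5 with h6 | h6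
    · exact hφ (orderOf_eq_one_iff.1 h6)
    · rw [h6] at h4
      exact S.not_dvd_index h4
  · intro g hg
    have h1 : (MonoidHom.transfer (H := (S : Subgroup C)) φ g) ^ Nat.card (S : Subgroup C) = 1 := by
      have : Finite (Quotient (MulAction.orbitRel (zpowers g) (C ⧸ (S : Subgroup C)))) :=
        Quotient.finite _
      have : Fintype (Quotient (MulAction.orbitRel (zpowers g) (C ⧸ (S : Subgroup C)))) :=
        Fintype.ofFinite _
      rw [MonoidHom.transfer_eq_prod_quotient_orbitRel_zpowers_quot, ← Finset.prod_pow]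
      refine Finset.prod_eq_one fun q _ => ?_
      rw [← map_pow, pow_card_eq_one', map_one]
    obtain ⟨k, hk⟩ := IsPGroup.iff_card.1 S.2
    rw [hk] at h1
    have h2 : orderOf (MonoidHom.transfer (H := (S : Subgroup C)) φ g) ∣ s ^ k :=
      orderOf_dvd_of_pow_eq_one h1
    have h3 := orderOf_map_dvd (MonoidHom.transfer (H := (S : Subgroup C)) φ) g
    rw [← orderOf_eq_one_iff]
    obtain ⟨j, -, hj⟩ := (Nat.dvd_prime_pow hs.out).1 h2
    rcases Nat.eq_zero_or_pos j with rfl | hj0
    · rw [hj, pow_zero]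
    · exfalso
      rw [hj] at h3
      exact hg ((dvd_pow_self s hj0.ne').trans h3)

/-- Orthogonality of linear characters. -/
theorem sum_hom {H : Type u} [Group H] [Fintype H] (a b : H →* ℂˣ) :
    ∑ c : H, (a c : ℂ) * conj (b c : ℂ) = if a = b then (Nat.card H : ℂ) else 0 := by
  classical
  have h1 : ∀ c, (a c : ℂ) * conj (b c : ℂ) = (((a * b⁻¹ : H →* ℂˣ) c : ℂˣ) : ℂ) := by
    intro c
    rw [MonoidHom.mul_apply, MonoidHom.inv_apply, Units.val_mul, Units.val_inv_eq_inv_val,
      Complex.inv_eq_conj (Characters.Linear.norm_hom_apply b c)]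
  rw [Finset.sum_congr rfl fun c _ => h1 c]
  have h2 := sum_hom_units ((Units.coeHom ℂ).comp (a * b⁻¹))
  have h3 : ((Units.coeHom ℂ).comp (a * b⁻¹) = 1) ↔ a = b := by
    constructor
    · intro h
      ext c
      have h4 := DFunLike.congr_fun h c
      simp only [MonoidHom.comp_apply, MonoidHom.mul_apply, MonoidHom.inv_apply,
        Units.coeHom_apply, Units.val_mul, Units.val_inv_eq_inv_val, MonoidHom.one_apply] at h4
      have h5 : (b c : ℂ) ≠ 0 := (b c).ne_zero
      exact (mul_inv_eq_one₀ h5).1 h4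
    · rintro rfl
      ext c
      simp
  simp only [MonoidHom.comp_apply, Units.coeHom_apply] at h2
  rw [h2, Nat.card_eq_fintype_card]
  by_cases hab : a = b
  · rw [if_pos (h3.2 hab), if_pos hab]
  · rw [if_neg fun h => hab (h3.1 h), if_neg hab, Nat.cast_zero]

section main

theorem mem_centralizer_comm {G : Type u} [Group G] {y c : G} : c ∈ centralizer ({y} : Set G) ↔ Commute c y :=
  mem_centralizer_singleton_iff

/-- Conjugation by an element normalising `⟨y⟩`. -/
theorem conj_mem_centralizer {G : Type u} [Group G] [Finite G] {y x : G} (hx : x⁻¹ * y * x ∈ zpowers y) {c : G}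
    (hc : c ∈ centralizer ({y} : Set G)) : x⁻¹ * c * x ∈ centralizer ({y} : Set G) := by
  have hord : orderOf (x⁻¹ * y * x) = orderOf y := by
    have := MulEquiv.orderOf_eq (MulAut.conj x⁻¹) y
    simpa using this
  have h1 : zpowers (x⁻¹ * y * x) = zpowers y :=
    Subgroup.eq_of_le_of_card_ge (by rwa [zpowers_le])
      (by rw [Nat.card_zpowers, Nat.card_zpowers, hord])
  have h2 : y ∈ zpowers (x⁻¹ * y * x) := by rw [h1]; exact mem_zpowers y
  obtain ⟨k, hk⟩ := h2
  rw [mem_centralizer_comm] at hc ⊢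
  have h3 : Commute (x⁻¹ * c * x) (x⁻¹ * y * x) := by
    change x⁻¹ * c * x * (x⁻¹ * y * x) = x⁻¹ * y * x * (x⁻¹ * c * x)
    calc x⁻¹ * c * x * (x⁻¹ * y * x) = x⁻¹ * (c * y) * x := by group
      _ = x⁻¹ * (y * c) * x := by rw [hc.eq]
      _ = _ := by group
  have h4 := h3.zpow_right k
  have hk' : (x⁻¹ * y * x) ^ k = y := hk
  rwa [hk'] at h4

/-- Conjugation of the centralizer. -/
def conjHom {G : Type u} [Group G] [Finite G] {y x : G} (hx : x⁻¹ * y * x ∈ zpowers y) :
    centralizer ({y} : Set G) →* centralizer ({y} : Set G) where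
  toFun c := ⟨x⁻¹ * c * x, conj_mem_centralizer hx c.2⟩
  map_one' := Subtype.ext (by simp)
  map_mul' a b := Subtype.ext (by simp only [Subgroup.coe_mul]; group)

theorem exists_fun {G : Type u} [Group G] [Finite G] {s : ℕ} (hs : s.Prime)
    (hcyc : ∀ P : Sylow s G, IsCyclic (P : Subgroup G)) {y : G} (hy : orderOf y = s) :
    ∃ (I : Finset (IrrCharacter G)) (a : IrrCharacter G → ℂ) (χ₁ : IrrCharacter G),
      (∀ g, (χ₁ : G → ℂ) g = 1) ∧ χ₁ ∈ I ∧ a χ₁ ≠ 0 ∧
      I.card ≤ Nat.card {z : G // z ∈ zpowers y ∧ IsConj y z} + 1 ∧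
      ∀ g : G, ¬ s ∣ orderOf g → ∑ χ ∈ I, a χ * (χ : G → ℂ) g = 0 := by
  classical
  have hsf := Fact.mk hs
  have : Fintype G := Fintype.ofFinite G
  have := Characters.Core.finite_irr (G := G)
  have : Fintype (IrrCharacter G) := Fintype.ofFinite _
  set H := centralizer ({y} : Set G) with hH
  have : Fintype H := Fintype.ofFinite _
  have hyH : y ∈ H := mem_centralizer_comm.2 (Commute.refl y)
  -- the linear character
  have hcycH : ∀ P : Sylow s H, IsCyclic (P : Subgroup H) := by
    intro P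
    obtain ⟨Q, hQ⟩ := (P.2.map H.subtype).exists_le_sylow
    have := hcyc Q
    have h1 : IsCyclic ((P : Subgroup H).map H.subtype) := isCyclic_of_injective
      (Subgroup.inclusion hQ) (Subgroup.inclusion_injective hQ)
    have e := (P : Subgroup H).equivMapOfInjective H.subtype H.subtype_injective
    exact isCyclic_of_injective e.toMonoidHom e.injective
  obtain ⟨μ, hμy, hμ⟩ := exists_hom (C := H) hcycH (y := ⟨y, hyH⟩)
    (by rw [Subgroup.orderOf_mk, hy])
    (fun g => Subtype.ext (mem_centralizer_comm.1 g.2).eq)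
  set m : H → ℂ := fun c => 1 - (μ c : ℂ) with hm
  have hm0 : ∀ c : H, ¬ s ∣ orderOf (c : G) → m c = 0 := by
    intro c hc
    rw [hm]
    simp only []
    rw [hμ c (by rwa [← Subgroup.orderOf_coe]), Units.val_one, sub_self]
  set f : G → ℂ := indFun H m with hf
  have hfcl : IsClassFunction G f := CharactersDeep.IndFun.isClassFunction_indFun H m
  -- vanishing
  have hvan : ∀ g : G, ¬ s ∣ orderOf g → f g = 0 := by
    intro g hg
    rw [hf, CharactersDeep.IndFun.indFun_def]
    rw [Finset.sum_eq_zero, mul_zero]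
    intro x _
    have h1 : orderOf (x⁻¹ * g * x) = orderOf g := by
      have := MulEquiv.orderOf_eq (MulAut.conj x⁻¹) g
      simpa using this
    by_cases hx : x⁻¹ * g * x ∈ H
    · rw [CharactersDeep.IndFun.extendByZero_mem _ _ hx, hm0]
      change ¬ s ∣ orderOf (x⁻¹ * g * x)
      rwa [h1]
    · rw [CharactersDeep.IndFun.extendByZero_notMem _ _ hx]
  -- the set of normalising elements
  have hN : ∀ (x : G) (c : H) (hc : x⁻¹ * c * x ∈ H), m ⟨x⁻¹ * c * x, hc⟩ ≠ 0 →
      x⁻¹ * y * x ∈ zpowers y := by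
    intro x c hc hne
    have h1 : s ∣ orderOf (x⁻¹ * (c : G) * x) := by
      by_contra h
      exact hne (hm0 _ h)
    have h2 : orderOf (x⁻¹ * (c : G) * x) = orderOf (c : G) := by
      have := MulEquiv.orderOf_eq (MulAut.conj x⁻¹) (c : G)
      simpa using this
    have h3 := zpowers_eq_of_dvd hcyc hy h1 (mem_centralizer_comm.1 hc)
    rw [h2] at h1 h3
    have h4 := zpowers_eq_of_dvd hcyc hy h1 (mem_centralizer_comm.1 c.2)
    have h5 : y ∈ zpowers ((c : G) ^ (orderOf (c : G) / s)) := by
      rw [← h4]; exact mem_zpowers y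
    obtain ⟨k, hk⟩ := h5
    have hk' : ((c : G) ^ (orderOf (c : G) / s)) ^ k = y := hk
    rw [h3]
    refine ⟨k, ?_⟩
    change ((x⁻¹ * (c : G) * x) ^ (orderOf (c : G) / s)) ^ k = x⁻¹ * y * x
    rw [← hk']
    have h6 : (x⁻¹ * (c : G) * x) ^ (orderOf (c : G) / s) =
        x⁻¹ * ((c : G) ^ (orderOf (c : G) / s)) * x := by
      have := conj_pow (a := x⁻¹) (b := (c : G)) (i := orderOf (c : G) / s)
      simpa using this
    have h7 : (x⁻¹ * ((c : G) ^ (orderOf (c : G) / s)) * x) ^ k =
        x⁻¹ * (((c : G) ^ (orderOf (c : G) / s)) ^ k) * x := by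
      have := conj_zpow (a := x⁻¹) (b := (c : G) ^ (orderOf (c : G) / s)) (i := k)
      simpa using this
    rw [h6, h7]
  set X : Finset G := Finset.univ.filter fun x => x⁻¹ * y * x ∈ zpowers y with hX
  set e : ℕ := Nat.card {z : G // z ∈ zpowers y ∧ IsConj y z} with he
  have hXcard : X.card = e * Nat.card H := by
    have hr : ∀ z : {z : G // z ∈ zpowers y ∧ IsConj y z}, ∃ r : G, r⁻¹ * y * r = z := by
      intro z
      obtain ⟨c, hc⟩ := isConj_iff.1 z.2.2
      exact ⟨c⁻¹, by rw [inv_inv]; exact hc⟩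
    choose r hr using hr
    have h1 : X.card = Nat.card {x : G // x⁻¹ * y * x ∈ zpowers y} := by
      rw [hX, Nat.card_eq_fintype_card, Fintype.card_subtype]
    rw [h1, he, ← Nat.card_prod]
    refine Nat.card_congr
      { toFun := fun x => (⟨(x : G)⁻¹ * y * x, x.2, isConj_iff.2 ⟨(x : G)⁻¹, by simp⟩⟩,
          ⟨(x : G) * (r ⟨(x : G)⁻¹ * y * x, x.2, isConj_iff.2 ⟨(x : G)⁻¹, by simp⟩⟩)⁻¹, ?_⟩)
        invFun := fun p => ⟨(p.2 : G) * r p.1, ?_⟩
        left_inv := ?_
        right_inv := ?_ }
    · rw [mem_centralizer_comm]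
      have h2 := hr ⟨(x : G)⁻¹ * y * x, x.2, isConj_iff.2 ⟨(x : G)⁻¹, by simp⟩⟩
      set t := r ⟨(x : G)⁻¹ * y * x, x.2, isConj_iff.2 ⟨(x : G)⁻¹, by simp⟩⟩
      simp only [] at h2
      change (x : G) * t⁻¹ * y = y * ((x : G) * t⁻¹)
      calc (x : G) * t⁻¹ * y = (x : G) * (t⁻¹ * y * t) * t⁻¹ := by group
        _ = (x : G) * ((x : G)⁻¹ * y * x) * t⁻¹ := by rw [h2]
        _ = _ := by group
    · have h2 := hr p.1
      have h3 := (mem_centralizer_comm.1 p.2.2).eq
      have h4 : ((p.2 : G) * r p.1)⁻¹ * y * ((p.2 : G) * r p.1) = (p.1 : G) := by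
        rw [← h2]
        calc ((p.2 : G) * r p.1)⁻¹ * y * ((p.2 : G) * r p.1) =
              (r p.1)⁻¹ * ((p.2 : G)⁻¹ * (y * p.2)) * r p.1 := by group
          _ = (r p.1)⁻¹ * ((p.2 : G)⁻¹ * (p.2 * y)) * r p.1 := by rw [h3]
          _ = _ := by group
      rw [h4]
      exact p.1.2.1
    · intro x
      exact Subtype.ext (by simp)
    · rintro ⟨z, c⟩
      have h2 := hr z
      have h3 := (mem_centralizer_comm.1 c.2).eq
      have h4 : ((c : G) * r z)⁻¹ * y * ((c : G) * r z) = (z : G) := by
        rw [← h2]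
        calc ((c : G) * r z)⁻¹ * y * ((c : G) * r z) =
              (r z)⁻¹ * ((c : G)⁻¹ * (y * c)) * r z := by group
          _ = (r z)⁻¹ * ((c : G)⁻¹ * (c * y)) * r z := by rw [h3]
          _ = _ := by group
      have h5 : (⟨((c : G) * r z)⁻¹ * y * ((c : G) * r z), by rw [h4]; exact z.2.1,
          isConj_iff.2 ⟨((c : G) * r z)⁻¹, by simp⟩⟩ :
          {z : G // z ∈ zpowers y ∧ IsConj y z}) = z := Subtype.ext h4
      refine Prod.ext h5 (Subtype.ext ?_)
      simp only [h5]
      group
  -- the norm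
  have hHc : (Nat.card H : ℂ) ≠ 0 := Nat.cast_ne_zero.2 Nat.card_pos.ne'
  have hinner : ∀ x : G, ∑ c : H, m c * conj (extendByZero H m (x⁻¹ * c * x)) =
      (if x ∈ X then (Nat.card H : ℂ) else 0) + (if x ∈ H then (Nat.card H : ℂ) else 0) := by
    intro x
    by_cases hx : x ∈ X
    · have hx' : x⁻¹ * y * x ∈ zpowers y := (Finset.mem_filter.1 hx).2
      have h1 : ∀ c : H, m c * conj (extendByZero H m (x⁻¹ * c * x)) =
          1 - (μ c : ℂ) * conj (((1 : H →* ℂˣ) c : ℂˣ) : ℂ) -
          (((1 : H →* ℂˣ) c : ℂˣ) : ℂ) * conj (((μ.comp (conjHom hx')) c : ℂˣ) : ℂ) +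
          (μ c : ℂ) * conj (((μ.comp (conjHom hx')) c : ℂˣ) : ℂ) := by
        intro c
        rw [CharactersDeep.IndFun.extendByZero_mem _ _ (conj_mem_centralizer hx' c.2)]
        change (1 - (μ c : ℂ)) * conj (1 - (μ (conjHom hx' c) : ℂ)) = _
        rw [map_sub, map_one, MonoidHom.one_apply, Units.val_one, map_one, MonoidHom.comp_apply]
        ring
      rw [Finset.sum_congr rfl fun c _ => h1 c, Finset.sum_add_distrib, Finset.sum_sub_distrib,
        Finset.sum_sub_distrib, sum_hom, sum_hom, sum_hom, if_pos hx]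
      have h2 : μ ≠ 1 := fun h => hμy (by rw [h]; rfl)
      have h3 : (1 : H →* ℂˣ) ≠ μ.comp (conjHom hx') := by
        intro h
        obtain ⟨k, hk⟩ := id hx'
        have h4 : (μ (conjHom hx' ⟨y, hyH⟩)) = 1 := by
          have := DFunLike.congr_fun h (⟨y, hyH⟩ : H)
          exact this.symm
        have h5 : conjHom hx' ⟨y, hyH⟩ = (⟨y, hyH⟩ : H) ^ k := Subtype.ext (by
          rw [Subgroup.coe_zpow]
          exact hk.symm)
        rw [h5, map_zpow] at h4
        have h6 : orderOf (μ ⟨y, hyH⟩) ∣ s := by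
          have := orderOf_map_dvd μ (⟨y, hyH⟩ : H)
          rwa [Subgroup.orderOf_mk, hy] at this
        have h7 : orderOf (μ ⟨y, hyH⟩) = s :=
          ((Nat.dvd_prime hs).1 h6).resolve_left fun h => hμy (orderOf_eq_one_iff.1 h)
        have h8 : (s : ℤ) ∣ k := by
          rw [← h7]; exact orderOf_dvd_iff_zpow_eq_one.2 h4
        have h9 : y ^ k = 1 := by
          rw [← hy] at h8
          exact orderOf_dvd_iff_zpow_eq_one.1 h8
        have h10 : x⁻¹ * y * x = 1 := by
          have hk' : y ^ k = x⁻¹ * y * x := hk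
          rw [← hk', h9]
        have h11 : y = 1 := by
          have : y = x * (x⁻¹ * y * x) * x⁻¹ := by group
          rw [this, h10]; group
        rw [h11, orderOf_one] at hy
        exact hs.one_lt.ne hy
      have h4 : (μ = μ.comp (conjHom hx')) ↔ x ∈ H := by
        constructor
        · intro h
          rw [mem_centralizer_comm]
          obtain ⟨k, hk⟩ := id hx'
          have hk' : y ^ k = x⁻¹ * y * x := hk
          have h5 : μ ⟨y, hyH⟩ = μ (conjHom hx' ⟨y, hyH⟩) := DFunLike.congr_fun h (⟨y, hyH⟩ : H)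
          have h6 : conjHom hx' ⟨y, hyH⟩ = (⟨y, hyH⟩ : H) ^ k := Subtype.ext (by
            rw [Subgroup.coe_zpow]
            exact hk.symm)
          rw [h6, map_zpow] at h5
          have h7 : (μ ⟨y, hyH⟩) ^ (k - 1) = 1 := by
            rw [zpow_sub, zpow_one, ← h5, mul_inv_cancel]
          have h8 : orderOf (μ ⟨y, hyH⟩) ∣ s := by
            have := orderOf_map_dvd μ (⟨y, hyH⟩ : H)
            rwa [Subgroup.orderOf_mk, hy] at this
          have h9 : orderOf (μ ⟨y, hyH⟩) = s :=
            ((Nat.dvd_prime hs).1 h8).resolve_left fun h => hμy (orderOf_eq_one_iff.1 h)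
          have h10 : (s : ℤ) ∣ k - 1 := by
            rw [← h9]; exact orderOf_dvd_iff_zpow_eq_one.2 h7
          have h11 : y ^ (k - 1) = 1 := by
            rw [← hy] at h10
            exact orderOf_dvd_iff_zpow_eq_one.1 h10
          have h12 : y ^ k = y := by
            have : y ^ k = y ^ (k - 1) * y := by
              rw [← zpow_add_one, sub_add_cancel]
            rw [this, h11, one_mul]
          rw [h12] at hk'
          change x * y = y * x
          calc x * y = x * (x⁻¹ * y * x) := by rw [← hk']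
            _ = y * x := by group
        · intro h
          ext c
          have h5 : conjHom hx' c = (⟨x, h⟩ : H)⁻¹ * c * ⟨x, h⟩ := Subtype.ext (by
            simp only [Subgroup.coe_mul, Subgroup.coe_inv]
            rfl)
          rw [MonoidHom.comp_apply, h5, map_mul, map_mul, map_inv, mul_comm (μ ⟨x, h⟩)⁻¹,
            inv_mul_cancel_right]
      rw [if_neg h2, if_neg h3, sub_zero, sub_zero, Finset.sum_const, Finset.card_univ,
        nsmul_eq_mul, mul_one, ← Nat.card_eq_fintype_card]
      by_cases hxH : x ∈ H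
      · rw [if_pos (h4.2 hxH), if_pos hxH]
      · rw [if_neg fun h => hxH (h4.1 h), if_neg hxH]
    · have hxH : x ∉ H := by
        intro h
        apply hx
        rw [hX, Finset.mem_filter]
        refine ⟨Finset.mem_univ _, ?_⟩
        have h1 := (mem_centralizer_comm.1 h).eq
        rw [mul_assoc, ← h1, inv_mul_cancel_left]
        exact mem_zpowers y
      rw [if_neg hx, if_neg hxH, add_zero]
      refine Finset.sum_eq_zero fun c _ => ?_
      by_cases hc : x⁻¹ * (c : G) * x ∈ H
      · rw [CharactersDeep.IndFun.extendByZero_mem _ _ hc]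
        by_cases h0 : m ⟨x⁻¹ * (c : G) * x, hc⟩ = 0
        · rw [h0, map_zero, mul_zero]
        · exfalso
          apply hx
          rw [hX, Finset.mem_filter]
          exact ⟨Finset.mem_univ _, hN x c hc h0⟩
      · rw [CharactersDeep.IndFun.extendByZero_notMem _ _ hc, map_zero, mul_zero]
  have hnorm : classInner f f = (e : ℂ) + 1 := by
    conv_lhs => rw [hf]
    rw [CharactersDeep.IndFun.classInner_indFun H m _ hfcl]
    unfold classInner
    have h1 : ∀ c : H, m c * conj (f c) =
        (Nat.card H : ℂ)⁻¹ * ∑ x : G, m c * conj (extendByZero H m (x⁻¹ * c * x)) := by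
      intro c
      rw [hf, CharactersDeep.IndFun.indFun_def, map_mul, map_inv₀, map_sum, Complex.conj_natCast,
        mul_left_comm, Finset.mul_sum]
    have h2 : ∑ c : H, m c * conj (f c) =
        (Nat.card H : ℂ)⁻¹ * ∑ x : G, ∑ c : H, m c * conj (extendByZero H m (x⁻¹ * c * x)) := by
      rw [Finset.sum_congr rfl fun c _ => h1 c, ← Finset.mul_sum, Finset.sum_comm]
    rw [h2, Finset.sum_congr rfl fun x _ => hinner x, Finset.sum_add_distrib]
    have h3 : ∑ x : G, (if x ∈ X then (Nat.card H : ℂ) else 0) =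
        (e : ℂ) * Nat.card H * Nat.card H := by
      rw [← Finset.sum_filter, Finset.sum_const, nsmul_eq_mul, Finset.filter_mem_eq_inter,
        Finset.univ_inter, hXcard]
      push_cast
      ring
    have h4 : ∑ x : G, (if x ∈ H then (Nat.card H : ℂ) else 0) = (Nat.card H : ℂ) * Nat.card H := by
      rw [← Finset.sum_filter, Finset.sum_const, nsmul_eq_mul]
      congr 2
      rw [Nat.card_eq_fintype_card, Fintype.card_subtype]
    rw [h3, h4]
    field_simp
  -- integrality
  have hm1 : m = (1 : H → ℂ) - fun c => (μ c : ℂ) := by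
    funext c
    rfl
  have hint : ∀ χ : IrrCharacter G, ∃ n : ℤ, classInner f (χ : G → ℂ) = n := by
    intro χ
    rw [hf, CharactersDeep.IndFun.classInner_indFun H m _ (isIrr_isClassFunction χ.2), hm1,
      classInner_sub_left]
    have h1 : IsCharacter H (fun h : H => (χ : G → ℂ) h) :=
      isCharacter_comp H.subtype (isIrr_isCharacter χ.2)
    obtain ⟨n1, hn1⟩ := classInner_isNat (isCharacter_one (G := H)) h1
    obtain ⟨n2, hn2⟩ := classInner_isNat (Characters.Linear.isCharacter_hom μ) h1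
    refine ⟨(n1 : ℤ) - n2, ?_⟩
    rw [hn1, hn2]
    push_cast
    ring
  choose n hn using hint
  have hsum : ∑ χ : IrrCharacter G, (n χ) ^ 2 = (e : ℤ) + 1 := by
    have h1 := classInner_eq_sum hfcl hfcl
    rw [hnorm] at h1
    have h2 : ∀ χ : IrrCharacter G, classInner f (χ : G → ℂ) * conj (classInner f (χ : G → ℂ)) =
        (((n χ) ^ 2 : ℤ) : ℂ) := by
      intro χ
      rw [hn χ, map_intCast]
      push_cast
      ring
    rw [Finset.sum_congr rfl fun χ _ => h2 χ] at h1
    exact_mod_cast h1.symm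
  set I : Finset (IrrCharacter G) := Finset.univ.filter fun χ => n χ ≠ 0 with hI
  let χ₁ : IrrCharacter G := ⟨1, isIrr_one⟩
  have hχ₁ : n χ₁ = 1 := by
    have h1 : classInner f (χ₁ : G → ℂ) = 1 := by
      rw [hf, CharactersDeep.IndFun.classInner_indFun H m _ (isIrr_isClassFunction χ₁.2), hm1,
        classInner_sub_left]
      have h2 : (fun h : H => ((χ₁ : IrrCharacter G) : G → ℂ) h) = (1 : H → ℂ) := rfl
      rw [h2, classInner_irr_self isIrr_one,
        classInner_irr_ne (Characters.Linear.isIrrCharacter_hom μ) isIrr_one, sub_zero]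
      intro h
      apply hμy
      have := congrFun h (⟨y, hyH⟩ : H)
      exact Units.ext this
    have h2 := hn χ₁
    rw [h1] at h2
    exact_mod_cast h2.symm
  refine ⟨I, fun χ => classInner f (χ : G → ℂ), χ₁, fun _ => rfl, ?_, ?_, ?_, ?_⟩
  · rw [hI, Finset.mem_filter]
    exact ⟨Finset.mem_univ _, by rw [hχ₁]; exact one_ne_zero⟩
  · simp only []
    rw [hn χ₁, hχ₁]
    simp
  · have h1 : (I.card : ℤ) ≤ ∑ χ ∈ I, (n χ) ^ 2 := by
      rw [Finset.card_eq_sum_ones, Nat.cast_sum]
      refine Finset.sum_le_sum fun χ hχ => ?_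
      have h2 : n χ ≠ 0 := (Finset.mem_filter.1 hχ).2
      have h3 : 0 < (n χ) ^ 2 := by positivity
      rw [Nat.cast_one]
      exact h3
    have h2 : ∑ χ ∈ I, (n χ) ^ 2 ≤ ∑ χ : IrrCharacter G, (n χ) ^ 2 :=
      Finset.sum_le_sum_of_subset_of_nonneg (Finset.subset_univ _) fun _ _ _ => sq_nonneg _
    rw [hsum] at h2
    have h3 := h1.trans h2
    exact_mod_cast h3
  · intro g hg
    have h1 := classFunction_eq_sum hfcl
    have h2 := congrFun h1 g
    rw [hvan g hg, Finset.sum_apply] at h2
    rw [h2, hI, Finset.sum_filter]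
    refine Finset.sum_congr rfl fun χ _ => ?_
    by_cases h0 : n χ = 0
    · rw [if_neg (not_not.2 h0), Pi.smul_apply, hn χ, h0, Int.cast_zero, zero_smul]
    · rw [if_pos h0]
      rfl

end main

end Cfsg.Agent.H208.Pi
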